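import Groth.Agent.Lib.Helper73.DimFT.Basic
import Mathlib.RingTheory.Ideal.KrullsHeightTheorem
import Mathlib.RingTheory.KrullDimension.NonZeroDivisors
import Mathlib.RingTheory.UniqueFactorizationDomain.Ideal
import Mathlib.RingTheory.Ideal.Quotient.Operations
import Mathlib.RingTheory.FiniteType

set_option autoImplicit false

namespace Groth.Agent.Lib.Helper73
open Polynomial

section FT

variable (k : Type*) [Field k] (A : Type*) [CommRing A] [Algebra k A] [Algebra.FiniteType k A]

include k in
theorem exists_nat_ringKrullDim_eq [Nontrivial A] : ∃ d : ℕ, ringKrullDim A = d := by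
  obtain ⟨d, g, hinj, hfin⟩ := exists_finite_inj_algHom_of_fg k A
  exact ⟨d, ringKrullDim_eq_of_finite_injective g hinj hfin⟩

variable {A}

include k in
/-- In a domain of finite type over a field all maximal ideals have height `dim A`. -/
theorem height_eq_ringKrullDim_of_isMaximal [IsDomain A] (m : Ideal A) [m.IsMaximal] :
    (m.height : WithBot ℕ∞) = ringKrullDim A := by
  obtain ⟨d, g, hinj, hfin⟩ := exists_finite_inj_algHom_of_fg k A
  rw [ringKrullDim_eq_of_finite_injective g hinj hfin,
    height_eq_of_isMaximal_of_finite_injective g hinj hfin m]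
  rfl

theorem trdeg_eq_of_ringKrullDim_eq [IsDomain A] (K : Type*) [Field K] [Algebra A K]
    [IsFractionRing A K] [Algebra k K] [IsScalarTower k A K] (d : ℕ)
    (hd : ringKrullDim A = d) : Algebra.trdeg k K = d := by
  obtain ⟨d', g, hinj, hfin⟩ := exists_finite_inj_algHom_of_fg k A
  rw [ringKrullDim_eq_of_finite_injective g hinj hfin] at hd
  have : d' = d := by exact_mod_cast hd
  subst this
  exact trdeg_eq_of_finite_injective g hinj hfin K

theorem ringKrullDim_eq_of_trdeg_eq [IsDomain A] (K : Type*) [Field K] [Algebra A K]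
    [IsFractionRing A K] [Algebra k K] [IsScalarTower k A K] (d : ℕ)
    (hd : Algebra.trdeg k K = d) : ringKrullDim A = d := by
  obtain ⟨d', g, hinj, hfin⟩ := exists_finite_inj_algHom_of_fg k A
  rw [ringKrullDim_eq_of_finite_injective g hinj hfin]
  rw [trdeg_eq_of_finite_injective g hinj hfin K] at hd
  have : d' = d := by exact_mod_cast hd
  rw [this]

include k in
/-- `dim B/(x) + 1 = dim B` for a nonzero nonunit `x` of a domain of finite type over a field. -/
theorem ringKrullDim_quotient_span_singleton_add_one [IsDomain A] (x : A) (hx0 : x ≠ 0)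
    (hxu : ¬ IsUnit x) : ringKrullDim (A ⧸ Ideal.span {x}) + 1 = ringKrullDim A := by
  have : IsNoetherianRing A := Algebra.FiniteType.isNoetherianRing k A
  apply le_antisymm
  · exact ringKrullDim_quotient_succ_le_of_nonZeroDivisor (mem_nonZeroDivisors_of_ne_zero hx0)
  · have hne : Ideal.span {x} ≠ ⊤ := by
      rwa [Ne, Ideal.span_singleton_eq_top]
    obtain ⟨M, hM, hxM⟩ := Ideal.exists_le_maximal _ hne
    have hx : x ∈ M := hxM (Ideal.mem_span_singleton_self x)
    rw [← height_eq_ringKrullDim_of_isMaximal k M]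
    exact Ideal.height_le_ringKrullDim_quotient_add_one hx

include k in
/-- Key lemma: a height one prime of a domain of finite type over a field drops the dimension
by exactly one. -/
theorem ringKrullDim_quotient_add_one_of_height_eq_one [IsDomain A] (p : Ideal A) [p.IsPrime]
    (hp : p.height = 1) : ringKrullDim (A ⧸ p) + 1 = ringKrullDim A := by
  obtain ⟨d, g, hinj, hfin⟩ := exists_finite_inj_algHom_of_fg k A
  let P := MvPolynomial (Fin d) k
  let _ : Algebra P A := g.toRingHom.toAlgebra
  have hint : Algebra.IsIntegral P A := ⟨hfin.to_isIntegral⟩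
  have : FaithfulSMul P A := (faithfulSMul_iff_algebraMap_injective _ _).mpr hinj
  let p' : Ideal P := p.comap (algebraMap P A)
  have : p.LiesOver p' := ⟨rfl⟩
  have hp' : p'.height = 1 := by
    rw [← height_eq_of_liesOver_of_isIntegral_of_hasGoingDown p' p, hp]
  have hne : p' ≠ ⊥ := Ideal.ne_bot_of_height_eq_one hp'
  obtain ⟨x, hxmem, hxp⟩ := Ideal.IsPrime.exists_mem_prime_of_ne_bot inferInstance hne
  have hspan : p' = Ideal.span {x} := Ideal.eq_span_singleton_of_height_eq_one hp' hxmem hxp
  have h1 : ringKrullDim (P ⧸ p') + 1 = ringKrullDim P := by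
    rw [hspan]
    exact ringKrullDim_quotient_span_singleton_add_one k x hxp.ne_zero hxp.not_isUnit
  have h2 : ringKrullDim (A ⧸ p) = ringKrullDim (P ⧸ p') :=
    ringKrullDim_eq_of_ringHom (Ideal.quotientMap p (algebraMap P A) le_rfl)
      (RingHom.IsIntegral.quotient (algebraMap P A) hint.isIntegral) Ideal.quotientMap_injective
  rw [h2, h1]
  exact (ringKrullDim_eq_of_isIntegral_of_injective hinj).symm


/-- If `p ⋖ q` are primes, then the image of `q` in `A ⧸ p` has height one. -/
theorem height_map_quotientMk_eq_one_of_covBy {A : Type*} [CommRing A] (p q : PrimeSpectrum A)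
    (h : p ⋖ q) : (q.asIdeal.map (Ideal.Quotient.mk p.asIdeal)).height = 1 := by
  have hle : p.asIdeal ≤ q.asIdeal := h.lt.le
  have hq' : (q.asIdeal.map (Ideal.Quotient.mk p.asIdeal)).IsPrime :=
    Ideal.isPrime_map_quotientMk_of_isPrime hle
  have hcomap : (q.asIdeal.map (Ideal.Quotient.mk p.asIdeal)).comap (Ideal.Quotient.mk p.asIdeal)
      = q.asIdeal := by
    rw [Ideal.comap_map_of_surjective _ Ideal.Quotient.mk_surjective, ← RingHom.ker_eq_comap_bot,
      Ideal.mk_ker]
    exact sup_eq_left.mpr hle
  apply le_antisymm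
  · rw [show (1 : ℕ∞) = ((1 : ℕ) : ℕ∞) from rfl, Ideal.height_le_iff]
    intro r' hr' hlt
    have hr : (r'.comap (Ideal.Quotient.mk p.asIdeal)).IsPrime := Ideal.comap_isPrime _ _
    let r : PrimeSpectrum A := ⟨r'.comap (Ideal.Quotient.mk p.asIdeal), hr⟩
    have hmap : r.asIdeal.map (Ideal.Quotient.mk p.asIdeal) = r' :=
      Ideal.map_comap_of_surjective _ Ideal.Quotient.mk_surjective r'
    have hpr : p ≤ r := by
      change p.asIdeal ≤ r'.comap (Ideal.Quotient.mk p.asIdeal)
      intro x hx
      rw [Ideal.mem_comap, Ideal.Quotient.eq_zero_iff_mem.mpr hx]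
      exact r'.zero_mem
    have hrq : r < q := by
      refine lt_of_le_of_ne ?_ ?_
      · change r'.comap (Ideal.Quotient.mk p.asIdeal) ≤ q.asIdeal
        rw [← hcomap]
        exact Ideal.comap_mono hlt.le
      · intro heq
        rw [← hmap, heq] at hlt
        exact lt_irrefl _ hlt
    have hrp : r = p := by
      by_contra hne
      exact h.2 (lt_of_le_of_ne hpr (Ne.symm hne)) hrq
    have : r' = ⊥ := by
      rw [← hmap, hrp, Ideal.map_quotient_self]
    rw [this, Ideal.height_bot]
    exact zero_lt_one
  · rw [Order.one_le_iff_ne_zero, Ne, Ideal.height_eq_zero_iff_eq_bot]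
    intro hbot
    have : q.asIdeal ≤ p.asIdeal := by
      rw [← hcomap, hbot, ← RingHom.ker_eq_comap_bot, Ideal.mk_ker]
    exact absurd (lt_of_lt_of_le h.lt this) (lt_irrefl _)

include k in
/-- Catenary step: for primes `p ⋖ q` of a finite type algebra over a field,
`dim A/p = dim A/q + 1`. -/
theorem ringKrullDim_quotient_eq_add_one_of_covBy (p q : PrimeSpectrum A) (h : p ⋖ q) :
    ringKrullDim (A ⧸ p.asIdeal) = ringKrullDim (A ⧸ q.asIdeal) + 1 := by
  have hle : p.asIdeal ≤ q.asIdeal := h.lt.le
  have hq' : (q.asIdeal.map (Ideal.Quotient.mk p.asIdeal)).IsPrime :=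
    Ideal.isPrime_map_quotientMk_of_isPrime hle
  have h1 := ringKrullDim_quotient_add_one_of_height_eq_one k
    (q.asIdeal.map (Ideal.Quotient.mk p.asIdeal)) (height_map_quotientMk_eq_one_of_covBy p q h)
  rw [← h1, ringKrullDim_eq_of_ringEquiv (DoubleQuot.quotQuotEquivQuotOfLE hle)]

include k in
/-- Along a saturated chain of primes the dimension of the quotient drops by one at each step. -/
theorem ringKrullDim_quotient_head_eq_of_saturated (c : LTSeries (PrimeSpectrum A))
    (hsat : ∀ i : Fin c.length, c i.castSucc ⋖ c i.succ) :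
    ringKrullDim (A ⧸ c.head.asIdeal) = ringKrullDim (A ⧸ c.last.asIdeal) + (c.length : ℕ) := by
  have key : ∀ (n : ℕ) (hn : n < c.length + 1),
      ringKrullDim (A ⧸ c.head.asIdeal) = ringKrullDim (A ⧸ (c ⟨n, hn⟩).asIdeal) + (n : ℕ) := by
    intro n
    induction n with
    | zero =>
      intro hn
      simp only [Nat.cast_zero, add_zero]
      rfl
    | succ n ih =>
      intro hn
      have hn' : n < c.length := by omega
      rw [ih (by omega)]
      have := ringKrullDim_quotient_eq_add_one_of_covBy k _ _ (hsat ⟨n, hn'⟩)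
      have e1 : (⟨n, hn'⟩ : Fin c.length).castSucc = ⟨n, by omega⟩ := rfl
      have e2 : (⟨n, hn'⟩ : Fin c.length).succ = ⟨n + 1, hn⟩ := rfl
      rw [e1, e2] at this
      rw [this, add_assoc]
      congr 1
      push_cast
      rw [add_comm]
  have := key c.length (by omega)
  exact this

include k in
/-- Every saturated chain of primes from `⊥` to a maximal ideal in a domain of finite type over a
field has length `dim A`. -/
theorem length_eq_ringKrullDim_of_saturated [IsDomain A] (c : LTSeries (PrimeSpectrum A))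
    (h0 : c.head.asIdeal = ⊥) (hmax : c.last.asIdeal.IsMaximal)
    (hsat : ∀ i : Fin c.length, c i.castSucc ⋖ c i.succ) :
    (c.length : WithBot ℕ∞) = ringKrullDim A := by
  have h := ringKrullDim_quotient_head_eq_of_saturated k c hsat
  rw [h0] at h
  have e1 : ringKrullDim (A ⧸ (⊥ : Ideal A)) = ringKrullDim A :=
    ringKrullDim_eq_of_ringEquiv (RingEquiv.quotientBot A)
  let _ : Field (A ⧸ c.last.asIdeal) := Ideal.Quotient.field _
  have e2 : ringKrullDim (A ⧸ c.last.asIdeal) = 0 := ringKrullDim_eq_zero_of_field _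
  rw [e1, e2, zero_add] at h
  exact h.symm

include k in
theorem ringKrullDim_quotient_add_orderHeight [IsDomain A] (n : ℕ) (q : PrimeSpectrum A)
    (hq : Order.height q = n) :
    ringKrullDim (A ⧸ q.asIdeal) + (n : ℕ) = ringKrullDim A := by
  induction n generalizing q with
  | zero =>
    have hmin : IsMin q := by
      rw [← Order.height_eq_zero]; exact_mod_cast hq
    have hb : q.asIdeal = ⊥ := by
      have hle : q ≤ (⟨⊥, Ideal.isPrime_bot⟩ : PrimeSpectrum A) :=
        hmin (show (⟨⊥, Ideal.isPrime_bot⟩ : PrimeSpectrum A) ≤ q from bot_le (a := q.asIdeal))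
      exact le_bot_iff.mp hle
    rw [hb]
    simp only [Nat.cast_zero, add_zero]
    exact ringKrullDim_eq_of_ringEquiv (RingEquiv.quotientBot A)
  | succ n ih =>
    have hq' : Order.height q = (n : ℕ∞) + 1 := by exact_mod_cast hq
    obtain ⟨-, ⟨r, hrq, hr⟩, hall⟩ := Order.height_eq_coe_add_one_iff.mp hq'
    have hcov : r ⋖ q := by
      refine ⟨hrq, fun s hrs hsq => ?_⟩
      have h1 := Order.height_add_one_le hrs
      have h2 := hall s hsq
      rw [hr] at h1
      have : ((n : ℕ∞) + 1) ≤ n := h1.trans h2
      exact absurd this (by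
        rw [not_le]
        exact_mod_cast Nat.lt_succ_self n)
    have h3 := ringKrullDim_quotient_eq_add_one_of_covBy k r q hcov
    have h4 := ih r hr
    rw [h3] at h4
    rw [← h4, add_assoc]
    congr 1
    push_cast
    rw [add_comm]

include k in
/-- Dimension formula: `ht q + dim A/q = dim A` for a prime `q` of a domain of finite type over a
field. -/
theorem height_add_ringKrullDim_quotient [IsDomain A] (q : Ideal A) [hq : q.IsPrime] :
    (q.height : WithBot ℕ∞) + ringKrullDim (A ⧸ q) = ringKrullDim A := by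
  have : IsNoetherianRing A := Algebra.FiniteType.isNoetherianRing k A
  have hfin : q.height ≠ ⊤ := Ideal.height_ne_top_of_isPrime
  obtain ⟨n, hn⟩ := ENat.ne_top_iff_exists.mp hfin
  have h1 := PrimeSpectrum.height_eq_orderHeight (⟨q, hq⟩ : PrimeSpectrum A)
  simp only at h1
  have h2 := ringKrullDim_quotient_add_orderHeight k n ⟨q, hq⟩ (by rw [← h1, ← hn])
  rw [← hn, add_comm]
  exact h2

end FT

end Groth.Agent.Lib.Helper73
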