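import Mathlib.RingTheory.NoetherNormalization
import Mathlib.RingTheory.KrullDimension.Polynomial
import Mathlib.RingTheory.KrullDimension.Field
import Mathlib.RingTheory.Ideal.HasGoingUp
import Mathlib.RingTheory.Ideal.GoingUp
import Mathlib.RingTheory.Ideal.GoingDown
import Mathlib.RingTheory.IntegralClosure.GoingDown
import Mathlib.RingTheory.Polynomial.UniqueFactorization
import Mathlib.RingTheory.Polynomial.RationalRoot
import Mathlib.RingTheory.Jacobson.Ring
import Mathlib.RingTheory.AlgebraicIndependent.TranscendenceBasis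
import Mathlib.RingTheory.Localization.Integral
import Mathlib.RingTheory.LocalRing.ResidueField.Ideal

set_option autoImplicit false

namespace Groth.Agent.Lib.Helper73
open Polynomial

theorem ringKrullDim_eq_of_isIntegral_of_injective {R S : Type*} [CommRing R] [CommRing S]
    [Algebra R S] [Algebra.IsIntegral R S] (hinj : Function.Injective (algebraMap R S)) :
    ringKrullDim S = ringKrullDim R := by
  apply le_antisymm
  · refine Order.krullDim_le_of_strictMono (PrimeSpectrum.comap (algebraMap R S)) ?_
    intro P Q hPQ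
    exact Ideal.IsIntegral.comap_lt_comap (R := R) (I := P.asIdeal) (J := Q.asIdeal) hPQ
  · unfold ringKrullDim Order.krullDim
    refine iSup_le fun l => ?_
    have hker : (⊥ : Ideal S).comap (algebraMap R S) ≤ (RelSeries.head l).asIdeal := by
      rw [← RingHom.ker_eq_comap_bot, (RingHom.injective_iff_ker_eq_bot _).1 hinj]
      exact bot_le
    obtain ⟨P, -, hP, hPc⟩ := Ideal.exists_ideal_over_prime_of_isIntegral
      (RelSeries.head l).asIdeal (⊥ : Ideal S) hker
    have : P.IsPrime := hP
    have : P.LiesOver (RelSeries.head l).asIdeal := ⟨hPc.symm⟩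
    obtain ⟨L, hlen, -, -⟩ := Ideal.exists_ltSeries_of_hasGoingUp l P
    rw [← hlen]
    exact Order.LTSeries.length_le_krullDim L

theorem ringKrullDim_eq_of_ringHom {R S : Type*} [CommRing R] [CommRing S] (f : R →+* S)
    (hf : f.IsIntegral) (hinj : Function.Injective f) : ringKrullDim S = ringKrullDim R := by
  let _ := f.toAlgebra
  have : Algebra.IsIntegral R S := ⟨hf⟩
  exact ringKrullDim_eq_of_isIntegral_of_injective hinj

/-- Integral extensions with going-down preserve heights of primes under contraction. -/
theorem height_eq_of_liesOver_of_isIntegral_of_hasGoingDown {R S : Type*} [CommRing R]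
    [CommRing S] [Algebra R S] [Algebra.IsIntegral R S] [Algebra.HasGoingDown R S]
    (p : Ideal R) [p.IsPrime] (P : Ideal S) [P.IsPrime] [P.LiesOver p] :
    P.height = p.height := by
  have e1 := PrimeSpectrum.height_eq_orderHeight (⟨P, inferInstance⟩ : PrimeSpectrum S)
  have e2 := PrimeSpectrum.height_eq_orderHeight (⟨p, inferInstance⟩ : PrimeSpectrum R)
  simp only at e1 e2
  rw [e1, e2]
  have hcomap : PrimeSpectrum.comap (algebraMap R S) ⟨P, inferInstance⟩ = ⟨p, inferInstance⟩ := by
    ext1
    exact (Ideal.LiesOver.over (p := p) (P := P)).symm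
  apply le_antisymm
  · rw [← hcomap]
    refine Order.height_le_height_apply_of_strictMono _ ?_ _
    intro P Q hPQ
    exact Ideal.IsIntegral.comap_lt_comap (R := R) (I := P.asIdeal) (J := Q.asIdeal) hPQ
  · rw [Order.height_eq_iSup_last_eq]
    refine iSup₂_le fun l hl => ?_
    have : P.LiesOver l.last.asIdeal := by
      rw [hl]; infer_instance
    obtain ⟨L, hlen, hlast, -⟩ := Ideal.exists_ltSeries_of_hasGoingDown l P
    rw [← hlen]
    exact Order.length_le_height (le_of_eq hlast)

/-- Every maximal ideal of `k[x_1,…,x_d]` has height `d`. -/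
theorem height_eq_of_isMaximal_mvPolynomial (k : Type*) [Field k] (d : ℕ)
    (M : Ideal (MvPolynomial (Fin d) k)) [hM : M.IsMaximal] : M.height = d := by
  induction d with
  | zero =>
    have hb : M = ⊥ := by
      let e : MvPolynomial (Fin 0) k ≃+* k := (MvPolynomial.isEmptyRingEquiv k (Fin 0))
      have hf : IsField (MvPolynomial (Fin 0) k) := e.toMulEquiv.isField (Field.toIsField k)
      let _ : Field (MvPolynomial (Fin 0) k) := hf.toField
      exact (Ideal.eq_bot_or_top M).resolve_right hM.ne_top
    subst hb
    simp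
  | succ d ih =>
    let R := MvPolynomial (Fin d) k
    let e : MvPolynomial (Fin (d + 1)) k ≃+* R[X] := (MvPolynomial.finSuccEquiv k d).toRingEquiv
    let M' : Ideal R[X] := M.map e
    have hM' : M'.IsMaximal := Ideal.map_isMaximal_of_equiv e
    have hp : (M'.comap (C : R →+* R[X])).IsMaximal :=
      Polynomial.isMaximal_comap_C_of_isJacobsonRing M'
    have : M'.LiesOver (M'.comap (C : R →+* R[X])) := ⟨rfl⟩
    have h1 := Polynomial.height_eq_height_add_one (M'.comap (C : R →+* R[X])) M'
    rw [ih _] at h1
    rw [← e.height_map M]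
    rw [h1]
    simp

section Noether

variable {k : Type*} [Field k] {A : Type*} [CommRing A] [Algebra k A] {d : ℕ}
  (g : MvPolynomial (Fin d) k →ₐ[k] A)

theorem ringKrullDim_mvPolynomial_field (k : Type*) [Field k] (d : ℕ) :
    ringKrullDim (MvPolynomial (Fin d) k) = (d : WithBot ℕ∞) := by
  rw [MvPolynomial.ringKrullDim_of_isNoetherianRing, ringKrullDim_eq_zero_of_field]
  simp

include g in
theorem ringKrullDim_eq_of_finite_injective (hinj : Function.Injective g) (hfin : g.Finite) :
    ringKrullDim A = (d : WithBot ℕ∞) := by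
  rw [ringKrullDim_eq_of_ringHom g.toRingHom hfin.to_isIntegral hinj,
    ringKrullDim_mvPolynomial_field]

include g in
theorem height_eq_of_isMaximal_of_finite_injective [IsDomain A] (hinj : Function.Injective g)
    (hfin : g.Finite) (m : Ideal A) [hm : m.IsMaximal] : m.height = d := by
  let _ : Algebra (MvPolynomial (Fin d) k) A := g.toRingHom.toAlgebra
  have hint : Algebra.IsIntegral (MvPolynomial (Fin d) k) A := ⟨hfin.to_isIntegral⟩
  have : FaithfulSMul (MvPolynomial (Fin d) k) A :=
    (faithfulSMul_iff_algebraMap_injective _ _).mpr hinj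
  have hmax : (m.comap (algebraMap (MvPolynomial (Fin d) k) A)).IsMaximal :=
    Ideal.isMaximal_comap_of_isIntegral_of_isMaximal m
  have : m.LiesOver (m.comap (algebraMap (MvPolynomial (Fin d) k) A)) := ⟨rfl⟩
  rw [height_eq_of_liesOver_of_isIntegral_of_hasGoingDown
    (m.comap (algebraMap (MvPolynomial (Fin d) k) A)) m]
  exact height_eq_of_isMaximal_mvPolynomial k d _

include g in
theorem trdeg_eq_of_finite_injective [IsDomain A] (hinj : Function.Injective g)
    (hfin : g.Finite) (K : Type*) [Field K] [Algebra A K] [IsFractionRing A K] [Algebra k K]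
    [IsScalarTower k A K] : Algebra.trdeg k K = d := by
  let _ : Algebra (MvPolynomial (Fin d) k) A := g.toRingHom.toAlgebra
  have hint : Algebra.IsIntegral (MvPolynomial (Fin d) k) A := ⟨hfin.to_isIntegral⟩
  have hst1 : IsScalarTower k (MvPolynomial (Fin d) k) A :=
    IsScalarTower.of_algebraMap_eq fun x => (g.commutes x).symm
  let _ : Algebra (MvPolynomial (Fin d) k) K :=
    ((algebraMap A K).comp (algebraMap (MvPolynomial (Fin d) k) A)).toAlgebra
  have hst2 : IsScalarTower (MvPolynomial (Fin d) k) A K :=
    IsScalarTower.of_algebraMap_eq fun x => rfl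
  have hst3 : IsScalarTower k (MvPolynomial (Fin d) k) K :=
    IsScalarTower.of_algebraMap_eq fun x => by
      rw [IsScalarTower.algebraMap_apply k A K, IsScalarTower.algebraMap_apply k (MvPolynomial (Fin d) k) A]
      rfl
  have hinjK : Function.Injective (algebraMap (MvPolynomial (Fin d) k) K) :=
    (IsFractionRing.injective A K).comp hinj
  have : FaithfulSMul (MvPolynomial (Fin d) k) K :=
    (faithfulSMul_iff_algebraMap_injective _ _).mpr hinjK
  have : Algebra.IsAlgebraic A K := IsLocalization.isAlgebraic K (nonZeroDivisors A)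
  have : Algebra.IsAlgebraic (MvPolynomial (Fin d) k) K :=
    Algebra.IsAlgebraic.trans (MvPolynomial (Fin d) k) A K
  have h := lift_trdeg_add_eq k (MvPolynomial (Fin d) k) K
  rw [trdeg_eq_zero (R := MvPolynomial (Fin d) k) (A := K)] at h
  simp only [MvPolynomial.trdeg_of_isDomain, Cardinal.mk_fintype, Fintype.card_fin,
    Cardinal.lift_natCast, Cardinal.lift_zero, add_zero] at h
  exact (Cardinal.lift_eq_nat_iff.mp h.symm)

end Noether

end Groth.Agent.Lib.Helper73
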