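import Groth.Agent.Lib.Helper73.DimFT.Scheme

set_option autoImplicit false
open TopologicalSpace Topology Order AlgebraicGeometry CategoryTheory

universe u

namespace Groth.Agent.Lib.Helper73

section Mor

variable {k : Type u} [Field k]

/-- Transcendence degree is monotone along ring homomorphisms of fields compatible with the
structure maps. -/
lemma trdeg_le_of_ringHom {K L : Type u} [Field K] [Field L] (φ : k →+* K) (ψ : k →+* L)
    (e : K →+* L) (he : e.comp φ = ψ) :
    @Algebra.trdeg k K _ _ φ.toAlgebra ≤ @Algebra.trdeg k L _ _ ψ.toAlgebra := by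
  let _ := φ.toAlgebra
  let _ := ψ.toAlgebra
  have hc : ∀ c : k, e (algebraMap k K c) = algebraMap k L c := fun c => by
    change e (φ c) = ψ c
    rw [← he]; rfl
  let e' : K →ₐ[k] L := { e with commutes' := hc }
  exact trdeg_le_of_injective e' e.injective

/-- The transcendence degree of residue fields does not decrease along a morphism of schemes
locally of finite type over a field. -/
theorem trdegNat_le_of_hom {X Y : Scheme.{u}} (p : X ⟶ Spec (CommRingCat.of k))
    (q : Y ⟶ Spec (CommRingCat.of k)) [LocallyOfFiniteType p] [LocallyOfFiniteType q]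
    (f : Y ⟶ X) (hf : f ≫ p = q) (y : Y) : trdegNat p (f y) ≤ trdegNat q y := by
  subst hf
  have h := trdeg_le_of_ringHom (resMapOf p (f y)) (resMapOf (f ≫ p) y)
    (f.residueFieldMap y).hom (residueFieldMap_comp_resMapOf p f y)
  rw [trdeg_eq_trdegNat p (f y), trdeg_eq_trdegNat (f ≫ p) y] at h
  exact_mod_cast h

end Mor

end Groth.Agent.Lib.Helper73
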