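import Mathlib.Topology.KrullDimension
import Mathlib.Topology.Sober
import Mathlib.Topology.LocallyClosed
import Mathlib.Topology.NoetherianSpace
import Mathlib.Order.KrullDimension
import Mathlib.Order.RelSeries

set_option autoImplicit false
open TopologicalSpace Topology Order

namespace Groth.Agent.Lib.Helper73

/-- A dimension function on a topological space: strictly decreasing along proper
specializations, dropping by exactly one along immediate specializations, and such that points of
nonzero value have proper specializations in every open neighbourhood. -/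
structure IsDimFun {X : Type*} [TopologicalSpace X] (δ : X → ℕ) : Prop where
  lt_of_specializes : ∀ {x y : X}, x ⤳ y → x ≠ y → δ y < δ x
  eq_add_one_of_immediate : ∀ {x y : X}, x ⤳ y → x ≠ y →
    (∀ z, x ⤳ z → z ⤳ y → z = x ∨ z = y) → δ x = δ y + 1
  exists_specializes_of_ne_zero : ∀ (x : X) (W : Set X), IsOpen W → x ∈ W → δ x ≠ 0 →
    ∃ y ∈ W, x ⤳ y ∧ y ≠ x

/-- A strictly monotone natural valued function bounds the length of chains. -/
lemma LTSeries.apply_head_add_length_le {α : Type*} [Preorder α] (p : LTSeries α) (f : α → ℕ)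
    (hf : ∀ a b : α, a < b → f a < f b) : f p.head + p.length ≤ f p.last := by
  have key : ∀ (n : ℕ) (hn : n < p.length + 1), f p.head + n ≤ f (p ⟨n, hn⟩) := by
    intro n
    induction n with
    | zero => intro hn; exact le_of_eq rfl
    | succ n ih =>
      intro hn
      have h1 := ih (by omega)
      have h2 : p ⟨n, by omega⟩ < p ⟨n + 1, hn⟩ := p.strictMono (by simp [Fin.lt_def])
      have := hf _ _ h2
      omega
  exact key p.length (by omega)

namespace IsDimFun

section Basic

variable {X : Type*} [TopologicalSpace X] {δ : X → ℕ} (h : IsDimFun δ)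
include h

lemma le_of_specializes {x y : X} (hxy : x ⤳ y) : δ y ≤ δ x := by
  by_cases e : x = y
  · subst e; exact le_rfl
  · exact (h.lt_of_specializes hxy e).le

lemma eq_of_specializes_of_specializes {x y : X} (h1 : x ⤳ y) (h2 : y ⤳ x) : x = y := by
  by_contra e
  have := h.lt_of_specializes h1 e
  have := h.lt_of_specializes h2 (Ne.symm e)
  omega

lemma t0Space : T0Space X :=
  ⟨fun _ _ hxy => h.eq_of_specializes_of_specializes hxy.specializes hxy.specializes'⟩

/-- Every point of an open set specializes to a point of value zero inside the open set. -/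
lemma exists_specializes_zero {W : Set X} (hW : IsOpen W) {x : X} (hx : x ∈ W) :
    ∃ y ∈ W, x ⤳ y ∧ δ y = 0 := by
  induction hn : δ x using Nat.strong_induction_on generalizing x with
  | _ n ih =>
    by_cases h0 : δ x = 0
    · exact ⟨x, hx, specializes_rfl, h0⟩
    · obtain ⟨y, hyW, hxy, hne⟩ := h.exists_specializes_of_ne_zero x W hW hx h0
      have hlt := h.lt_of_specializes hxy hne.symm
      obtain ⟨z, hzW, hyz, hz0⟩ := ih (δ y) (hn ▸ hlt) hyW rfl
      exact ⟨z, hzW, hxy.trans hyz, hz0⟩

attribute [local instance] specializationPreorder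

lemma lt_of_specializes_of_ne {x y : X} (hxy : x ⤳ y) (hne : x ≠ y) : y < x :=
  lt_iff_le_not_ge.mpr ⟨hxy, fun hyx => hne (h.eq_of_specializes_of_specializes hxy hyx)⟩

lemma strictMono {a b : X} (hab : a < b) : δ a < δ b := by
  have h1 : b ⤳ a := hab.le
  refine h.lt_of_specializes h1 ?_
  rintro rfl
  exact lt_irrefl _ hab

/-- Between a point and a specialization of it there is a chain of length the difference of the
values. -/
lemma exists_ltSeries {x y : X} (hxy : x ⤳ y) :
    ∃ p : LTSeries X, p.head = y ∧ p.last = x ∧ p.length + δ y = δ x := by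
  induction hn : δ x - δ y using Nat.strong_induction_on generalizing x y with
  | _ n ih =>
    by_cases e : x = y
    · subst e
      exact ⟨RelSeries.singleton _ x, rfl, rfl, by simp⟩
    · by_cases himm : ∀ z, x ⤳ z → z ⤳ y → z = x ∨ z = y
      · have h1 := h.eq_add_one_of_immediate hxy e himm
        refine ⟨(RelSeries.singleton _ y).snoc x (h.lt_of_specializes_of_ne hxy e), ?_, ?_, ?_⟩
        · simp
        · simp
        · simp; omega
      · push Not at himm
        obtain ⟨z, hxz, hzy, hzx, hzy'⟩ := himm
        have hlt1 := h.lt_of_specializes hxz (Ne.symm hzx)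
        have hlt2 := h.lt_of_specializes hzy hzy'
        obtain ⟨p, hp1, hp2, hp3⟩ := ih (δ z - δ y) (by omega) hzy rfl
        obtain ⟨q, hq1, hq2, hq3⟩ := ih (δ x - δ z) (by omega) hxz rfl
        refine ⟨p.smash q (hp2.trans hq1.symm), ?_, ?_, ?_⟩
        · simp [hp1]
        · simp [hq2]
        · simp; omega

/-- The height of a point in the specialization order is the value of the dimension function. -/
lemma height_eq (x : X) : Order.height x = δ x := by
  apply le_antisymm
  · refine Order.height_le fun p hp => ?_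
    have := LTSeries.apply_head_add_length_le p δ (fun a b hab => h.strictMono hab)
    rw [hp] at this
    exact_mod_cast (by omega : p.length ≤ δ x)
  · obtain ⟨y, -, hxy, hy0⟩ := h.exists_specializes_zero isOpen_univ (Set.mem_univ x)
    obtain ⟨p, -, hp2, hp3⟩ := h.exists_ltSeries hxy
    have h1 : (p.length : ℕ∞) ≤ Order.height p.last := Order.length_le_height_last
    rw [hp2] at h1
    have : p.length = δ x := by omega
    rw [← this]
    exact h1

/-- Values at generizations are bounded by coheight plus value. -/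
lemma le_coheight_add {x η : X} (hηx : η ⤳ x) : (δ η : ℕ∞) ≤ Order.coheight x + δ x := by
  obtain ⟨p, hp1, hp2, hp3⟩ := h.exists_ltSeries hηx
  have h1 : (p.length : ℕ∞) ≤ Order.coheight p.head := Order.length_le_coheight_head
  rw [hp1] at h1
  calc (δ η : ℕ∞) = (p.length : ℕ∞) + δ x := by rw [← hp3]; push_cast; rfl
    _ ≤ Order.coheight x + δ x := by gcongr

/-- Coheight plus value is bounded by any bound of the values at generizations. -/
lemma coheight_add_le {x : X} {N : ℕ∞} (hN : ∀ η : X, η ⤳ x → (δ η : ℕ∞) ≤ N) :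
    Order.coheight x + δ x ≤ N := by
  have : Nonempty (LTSeries X) := ⟨RelSeries.singleton _ x⟩
  rw [Order.coheight_eq_iSup_head_eq, ENat.iSup_add]
  refine iSup_le fun p => ?_
  by_cases hp : p.head = x
  · simp only [hp, iSup_pos]
    have h1 := LTSeries.apply_head_add_length_le p δ (fun a b hab => h.strictMono hab)
    have h2 : p.last ⤳ x := by
      rw [← hp]
      exact (p.head_le_last : p.head ≤ p.last)
    refine le_trans ?_ (hN p.last h2)
    rw [hp] at h1
    exact_mod_cast (by omega : p.length + δ x ≤ δ p.last)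
  · simp only [hp, iSup_false, bot_eq_zero, zero_add]
    exact hN x specializes_rfl

end Basic


section Dim

variable {X : Type*} [TopologicalSpace X] {δ : X → ℕ} (h : IsDimFun δ)
include h

attribute [local instance] specializationOrder in
/-- On a quasi-sober space the Krull dimension is the supremum of a dimension function. -/
lemma topologicalKrullDim_eq_iSup [QuasiSober X] :
    topologicalKrullDim X = ⨆ x : X, ((δ x : ℕ∞) : WithBot ℕ∞) := by
  have := h.t0Space
  rw [topologicalKrullDim, krullDim_eq_of_orderIso (irreducibleSetEquivPoints (α := X)),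
    krullDim_eq_iSup_height]
  refine iSup_congr fun x => ?_
  congr 1
  exact h.height_eq x

/-- A dimension function restricts to locally closed subsets. -/
lemma restrict {W Z : Set X} (hW : IsOpen W) (hZ : IsClosed Z) :
    IsDimFun (fun t : ↥(W ∩ Z) => δ t.1) where
  lt_of_specializes := by
    intro x y hxy hne
    exact h.lt_of_specializes (hxy.map continuous_subtype_val) (fun e => hne (Subtype.ext e))
  eq_add_one_of_immediate := by
    intro x y hxy hne himm
    refine h.eq_add_one_of_immediate (hxy.map continuous_subtype_val)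
      (fun e => hne (Subtype.ext e)) ?_
    intro z hxz hzy
    have hzW : z ∈ W := hzy.mem_open hW y.2.1
    have hzZ : z ∈ Z := hxz.mem_closed hZ x.2.2
    have h1 : x ⤳ (⟨z, hzW, hzZ⟩ : ↥(W ∩ Z)) := IsInducing.subtypeVal.specializes_iff.mp hxz
    have h2 : (⟨z, hzW, hzZ⟩ : ↥(W ∩ Z)) ⤳ y := IsInducing.subtypeVal.specializes_iff.mp hzy
    rcases himm _ h1 h2 with e | e
    · left; exact congrArg Subtype.val e
    · right; exact congrArg Subtype.val e
  exists_specializes_of_ne_zero := by
    intro x W' hW' hxW' h0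
    obtain ⟨V, hV, rfl⟩ := isOpen_induced_iff.mp hW'
    obtain ⟨y, hy, hxy, hne⟩ := h.exists_specializes_of_ne_zero x.1 (V ∩ W) (hV.inter hW)
      ⟨hxW', x.2.1⟩ h0
    have hyZ : y ∈ Z := hxy.mem_closed hZ x.2.2
    refine ⟨⟨y, hy.2, hyZ⟩, hy.1, IsInducing.subtypeVal.specializes_iff.mp hxy, ?_⟩
    intro e
    exact hne (congrArg Subtype.val e)

/-- Dimension of a locally closed subset as a supremum of the dimension function. -/
lemma topologicalKrullDim_inter_eq_iSup [QuasiSober X] {W Z : Set X} (hW : IsOpen W)
    (hZ : IsClosed Z) :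
    topologicalKrullDim ↥(W ∩ Z) = ⨆ t : ↥(W ∩ Z), ((δ t.1 : ℕ∞) : WithBot ℕ∞) := by
  have : QuasiSober ↥W := hW.isOpenEmbedding_subtypeVal.quasiSober
  have : QuasiSober ↥(W ∩ Z) := QuasiSober.inter_of_isClosed_of_quasiSober_left W hZ
  exact (h.restrict hW hZ).topologicalKrullDim_eq_iSup

/-- Dimension of an open subset as a supremum of the dimension function. -/
lemma topologicalKrullDim_open_eq_iSup [QuasiSober X] {W : Set X} (hW : IsOpen W) :
    topologicalKrullDim ↥W = ⨆ t : ↥W, ((δ t.1 : ℕ∞) : WithBot ℕ∞) := by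
  have : QuasiSober ↥W := hW.isOpenEmbedding_subtypeVal.quasiSober
  have hr : IsDimFun (fun t : ↥W => δ t.1) := by
    refine ⟨?_, ?_, ?_⟩
    · intro x y hxy hne
      exact h.lt_of_specializes (hxy.map continuous_subtype_val) (fun e => hne (Subtype.ext e))
    · intro x y hxy hne himm
      refine h.eq_add_one_of_immediate (hxy.map continuous_subtype_val)
        (fun e => hne (Subtype.ext e)) ?_
      intro z hxz hzy
      have hzW : z ∈ W := hzy.mem_open hW y.2
      have h1 : x ⤳ (⟨z, hzW⟩ : ↥W) := IsInducing.subtypeVal.specializes_iff.mp hxz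
      have h2 : (⟨z, hzW⟩ : ↥W) ⤳ y := IsInducing.subtypeVal.specializes_iff.mp hzy
      rcases himm _ h1 h2 with e | e
      · left; exact congrArg Subtype.val e
      · right; exact congrArg Subtype.val e
    · intro x W' hW' hxW' h0
      obtain ⟨V, hV, rfl⟩ := isOpen_induced_iff.mp hW'
      obtain ⟨y, hy, hxy, hne⟩ := h.exists_specializes_of_ne_zero x.1 (V ∩ W) (hV.inter hW)
        ⟨hxW', x.2⟩ h0
      refine ⟨⟨y, hy.2⟩, hy.1, IsInducing.subtypeVal.specializes_iff.mp hxy, ?_⟩
      intro e
      exact hne (congrArg Subtype.val e)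
  exact hr.topologicalKrullDim_eq_iSup

/-- The dimension of the closure of a point inside an open neighbourhood is the value of the
dimension function. -/
lemma topologicalKrullDim_inter_closure_singleton [QuasiSober X] {W : Set X} (hW : IsOpen W)
    {x : X} (hx : x ∈ W) :
    topologicalKrullDim ↥(W ∩ closure {x}) = ((δ x : ℕ∞) : WithBot ℕ∞) := by
  rw [h.topologicalKrullDim_inter_eq_iSup hW isClosed_closure]
  apply le_antisymm
  · refine iSup_le fun t => ?_
    have : x ⤳ t.1 := specializes_iff_mem_closure.mpr t.2.2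
    exact_mod_cast h.le_of_specializes this
  · exact le_iSup (fun t : ↥(W ∩ closure {x}) => ((δ t.1 : ℕ∞) : WithBot ℕ∞))
      ⟨x, hx, subset_closure rfl⟩

end Dim

end IsDimFun

/-- In a Noetherian quasi-sober space every point has an open neighbourhood all of whose points
lie in an irreducible component through the given point. -/
lemma exists_open_forall_exists_generic {U : Type*} [TopologicalSpace U] [NoetherianSpace U]
    [QuasiSober U] (x : U) :
    ∃ W : Set U, IsOpen W ∧ x ∈ W ∧ ∀ w ∈ W, ∃ η : U, η ⤳ w ∧ η ⤳ x := by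
  have hfin : (irreducibleComponents U).Finite := NoetherianSpace.finite_irreducibleComponents
  let S : Set (Set U) := {Z ∈ irreducibleComponents U | x ∉ Z}
  have hSfin : S.Finite := hfin.subset (fun Z hZ => hZ.1)
  have hC : IsClosed (⋃₀ S) := by
    rw [Set.sUnion_eq_biUnion]
    exact hSfin.isClosed_biUnion fun Z hZ => isClosed_of_mem_irreducibleComponents Z hZ.1
  refine ⟨(⋃₀ S)ᶜ, hC.isOpen_compl, ?_, ?_⟩
  · rintro ⟨Z, hZ, hxZ⟩
    exact hZ.2 hxZ
  · intro w hw
    have hZ : irreducibleComponent w ∈ irreducibleComponents U :=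
      irreducibleComponent_mem_irreducibleComponents w
    have hxZ : x ∈ irreducibleComponent w := by
      by_contra hx
      exact hw ⟨irreducibleComponent w, ⟨hZ, hx⟩, mem_irreducibleComponent⟩
    obtain ⟨η, hη⟩ := QuasiSober.sober (isIrreducible_irreducibleComponent (x := w))
      (isClosed_of_mem_irreducibleComponents _ hZ)
    exact ⟨η, hη.specializes mem_irreducibleComponent, hη.specializes hxZ⟩

/-- Local version in an ambient space. -/
lemma exists_open_forall_exists_generic_of_nhd {X : Type*} [TopologicalSpace X] [QuasiSober X]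
    (x : X) (U : Set X) (hU : IsOpen U) (hxU : x ∈ U) [NoetherianSpace U] :
    ∃ W : Set X, IsOpen W ∧ x ∈ W ∧ ∀ w ∈ W, ∃ η : X, η ⤳ w ∧ η ⤳ x := by
  have : QuasiSober ↥U := hU.isOpenEmbedding_subtypeVal.quasiSober
  obtain ⟨W, hW, hxW, hall⟩ := exists_open_forall_exists_generic (⟨x, hxU⟩ : U)
  refine ⟨Subtype.val '' W, hU.isOpenMap_subtype_val W hW, ⟨_, hxW, rfl⟩, ?_⟩
  rintro _ ⟨w, hw, rfl⟩
  obtain ⟨η, h1, h2⟩ := hall w hw
  exact ⟨η.1, h1.map continuous_subtype_val, h2.map continuous_subtype_val⟩

namespace IsDimFun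

section Local

variable {X : Type*} [TopologicalSpace X] {δ : X → ℕ} (h : IsDimFun δ)
include h

attribute [local instance] specializationPreorder

/-- Local dimension formula: the infimum of the dimensions of the open neighbourhoods of `x` is
the coheight of `x` plus the value of the dimension function. -/
lemma iInf_topologicalKrullDim_eq [QuasiSober X] (x : X) (W : Set X) (hW : IsOpen W)
    (hxW : x ∈ W) (hLN : ∀ w ∈ W, ∃ η : X, η ⤳ w ∧ η ⤳ x) :
    (⨅ U : {U : Opens X // x ∈ U}, topologicalKrullDim ↥(U.1 : Set X)) =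
      ((Order.coheight x + δ x : ℕ∞) : WithBot ℕ∞) := by
  apply le_antisymm
  · refine (iInf_le _ ⟨⟨W, hW⟩, hxW⟩).trans ?_
    change topologicalKrullDim ↥W ≤ _
    rw [h.topologicalKrullDim_open_eq_iSup hW]
    refine iSup_le fun w => ?_
    obtain ⟨η, h1, h2⟩ := hLN w.1 w.2
    have := (h.le_coheight_add h2)
    refine WithBot.coe_le_coe.mpr (le_trans ?_ this)
    exact_mod_cast h.le_of_specializes h1
  · refine le_iInf fun U => ?_
    rw [h.topologicalKrullDim_open_eq_iSup (W := (U.1 : Set X)) U.1.isOpen]
    have : Nonempty ↥(U.1 : Set X) := ⟨⟨x, U.2⟩⟩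
    rw [← WithBot.coe_iSup (OrderTop.bddAbove _)]
    refine WithBot.coe_le_coe.mpr ?_
    refine h.coheight_add_le fun η hη => ?_
    exact le_iSup (fun t : ↥(U.1 : Set X) => (δ t.1 : ℕ∞)) ⟨η, hη.mem_open U.1.isOpen U.2⟩

end Local

/-- A function which is locally (on open charts) a dimension function is a dimension function. -/
lemma of_charts {X : Type*} [TopologicalSpace X] {δ : X → ℕ}
    (hc : ∀ y : X, ∃ (Y : Type*) (_ : TopologicalSpace Y) (φ : Y → X),
      IsOpenEmbedding φ ∧ y ∈ Set.range φ ∧ IsDimFun (δ ∘ φ)) : IsDimFun δ where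
  lt_of_specializes := by
    intro x y hxy hne
    obtain ⟨Y, _, φ, hφ, ⟨b, rfl⟩, hδ⟩ := hc y
    obtain ⟨a, rfl⟩ : x ∈ Set.range φ := hxy.mem_open hφ.isOpen_range ⟨b, rfl⟩
    exact hδ.lt_of_specializes (hφ.isInducing.specializes_iff.mp hxy) (fun e => hne (e ▸ rfl))
  eq_add_one_of_immediate := by
    intro x y hxy hne himm
    obtain ⟨Y, _, φ, hφ, ⟨b, rfl⟩, hδ⟩ := hc y
    obtain ⟨a, rfl⟩ : x ∈ Set.range φ := hxy.mem_open hφ.isOpen_range ⟨b, rfl⟩
    refine hδ.eq_add_one_of_immediate (hφ.isInducing.specializes_iff.mp hxy)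
      (fun e => hne (e ▸ rfl)) ?_
    intro c hac hcb
    rcases himm (φ c) (hac.map hφ.continuous) (hcb.map hφ.continuous) with e | e
    · left; exact hφ.injective e
    · right; exact hφ.injective e
  exists_specializes_of_ne_zero := by
    intro x W hW hxW h0
    obtain ⟨Y, _, φ, hφ, ⟨a, rfl⟩, hδ⟩ := hc x
    obtain ⟨b, hb, hab, hne⟩ := hδ.exists_specializes_of_ne_zero a (φ ⁻¹' W)
      (hW.preimage hφ.continuous) hxW h0
    exact ⟨φ b, hb, hab.map hφ.continuous, fun e => hne (hφ.injective e)⟩

end IsDimFun



namespace IsDimFun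

section More

variable {X : Type*} [TopologicalSpace X] {δ : X → ℕ} (h : IsDimFun δ)
include h

attribute [local instance] specializationPreorder

lemma coheight_add_le_of_specializes {x y : X} (hxy : x ⤳ y) :
    Order.coheight x + (δ x : ℕ∞) ≤ Order.coheight y + δ y :=
  h.coheight_add_le fun _ hη => h.le_coheight_add (hη.trans hxy)

lemma exists_specializes_zero_coheight_le (x : X) (W : Set X) (hW : IsOpen W)
    (hxW : x ∈ W) (hLN : ∀ w ∈ W, ∃ η : X, η ⤳ w ∧ η ⤳ x) :
    ∃ y, x ⤳ y ∧ δ y = 0 ∧ Order.coheight y ≤ Order.coheight x + (δ x : ℕ∞) := by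
  obtain ⟨y, hyW, hxy, hy0⟩ := h.exists_specializes_zero hW hxW
  refine ⟨y, hxy, hy0, ?_⟩
  have := h.coheight_add_le (x := y) (N := Order.coheight x + (δ x : ℕ∞)) ?_
  · simpa [hy0] using this
  · intro η hη
    obtain ⟨η', h1, h2⟩ := hLN η (hη.mem_open hW hyW)
    refine le_trans ?_ (h.le_coheight_add h2)
    exact_mod_cast h.le_of_specializes h1

end More

end IsDimFun



namespace IsDimFun

section Closed

variable {X : Type*} [TopologicalSpace X] {δ : X → ℕ} (h : IsDimFun δ)
include h

/-- Dimension of a closed subset as a supremum of the dimension function. -/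
lemma topologicalKrullDim_closed_eq_iSup [QuasiSober X] {Z : Set X} (hZ : IsClosed Z) :
    topologicalKrullDim ↥Z = ⨆ t : ↥Z, ((δ t.1 : ℕ∞) : WithBot ℕ∞) := by
  have e : Set.univ ∩ Z = Z := Set.univ_inter Z
  have := h.topologicalKrullDim_inter_eq_iSup isOpen_univ hZ
  rw [e] at this
  exact this

/-- The dimension of the closure of a point is the value of the dimension function. -/
lemma topologicalKrullDim_closure_singleton [QuasiSober X] (x : X) :
    topologicalKrullDim ↥(closure ({x} : Set X)) = ((δ x : ℕ∞) : WithBot ℕ∞) := by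
  have e : Set.univ ∩ closure ({x} : Set X) = closure {x} := Set.univ_inter _
  have := h.topologicalKrullDim_inter_closure_singleton isOpen_univ (Set.mem_univ x)
  rw [e] at this
  exact this

end Closed

end IsDimFun

end Groth.Agent.Lib.Helper73
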