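import Mathlib.RingTheory.Spectrum.Prime.Jacobson
import Mathlib.RingTheory.Spectrum.Prime.Topology
import Mathlib.Topology.JacobsonSpace
import Groth.Prelude.Def_Flat
import Mathlib.RingTheory.KrullDimension.Zero
import Groth.Agent.Lib.Helper73.DimFT.DimFun
import Groth.Agent.Lib.Helper73.DimFT.Catenary

set_option autoImplicit false
open TopologicalSpace Topology Order

namespace Groth.Agent.Lib.Helper73

/-- The dimension of the quotient by a prime, as a natural number (junk value `0` if infinite). -/
noncomputable def quotDim {A : Type*} [CommRing A] (p : PrimeSpectrum A) : ℕ :=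
  ((ringKrullDim (A ⧸ p.asIdeal)).unbotD 0).toNat

section

variable (k : Type*) [Field k] {A : Type*} [CommRing A] [Algebra k A] [Algebra.FiniteType k A]

include k in
lemma coe_quotDim (p : PrimeSpectrum A) :
    ((quotDim p : ℕ) : WithBot ℕ∞) = ringKrullDim (A ⧸ p.asIdeal) := by
  obtain ⟨d, hd⟩ := exists_nat_ringKrullDim_eq k (A ⧸ p.asIdeal)
  rw [quotDim, hd]
  rfl

include k in
lemma quotDim_eq_of_ringKrullDim_eq (p : PrimeSpectrum A) (d : ℕ)
    (hd : ringKrullDim (A ⧸ p.asIdeal) = d) : quotDim p = d := by
  have := coe_quotDim k p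
  rw [hd] at this
  exact_mod_cast this

include k in
lemma quotDim_eq_zero_of_isMaximal (p : PrimeSpectrum A) (hp : p.asIdeal.IsMaximal) :
    quotDim p = 0 := by
  let _ : Field (A ⧸ p.asIdeal) := Ideal.Quotient.field _
  exact quotDim_eq_of_ringKrullDim_eq k p 0 (ringKrullDim_eq_zero_of_field _)

include k in
lemma quotDim_lt_of_lt {p q : PrimeSpectrum A} (hpq : p < q) : quotDim q < quotDim p := by
  have hle : p.asIdeal ≤ q.asIdeal := hpq.le
  obtain ⟨x, hxq, hxp⟩ := Set.exists_of_ssubset (show (p.asIdeal : Set A) ⊂ q.asIdeal from hpq)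
  have h0 : (Ideal.Quotient.mk p.asIdeal x) ≠ 0 := by
    rwa [Ne, Ideal.Quotient.eq_zero_iff_mem]
  have h1 := ringKrullDim_succ_le_of_surjective (Ideal.Quotient.factor hle)
    (Ideal.Quotient.factor_surjective hle) (mem_nonZeroDivisors_of_ne_zero h0)
    (by rw [Ideal.Quotient.factor_mk, Ideal.Quotient.eq_zero_iff_mem]; exact hxq)
  rw [← coe_quotDim k p, ← coe_quotDim k q] at h1
  have : ((quotDim q + 1 : ℕ) : WithBot ℕ∞) ≤ ((quotDim p : ℕ) : WithBot ℕ∞) := by
    push_cast
    exact h1
  have : quotDim q + 1 ≤ quotDim p := by exact_mod_cast this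
  omega

include k in
/-- `p ↦ dim A/p` is a dimension function on the spectrum of a finite type algebra over a field. -/
theorem isDimFun_quotDim : IsDimFun (quotDim : PrimeSpectrum A → ℕ) where
  lt_of_specializes := by
    intro p q hpq hne
    have hle : p ≤ q := (PrimeSpectrum.le_iff_specializes p q).mpr hpq
    exact quotDim_lt_of_lt k (lt_of_le_of_ne hle hne)
  eq_add_one_of_immediate := by
    intro p q hpq hne himm
    have hle : p ≤ q := (PrimeSpectrum.le_iff_specializes p q).mpr hpq
    have hcov : p ⋖ q := by
      refine ⟨lt_of_le_of_ne hle hne, fun z hpz hzq => ?_⟩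
      rcases himm z ((PrimeSpectrum.le_iff_specializes p z).mp hpz.le)
        ((PrimeSpectrum.le_iff_specializes z q).mp hzq.le) with e | e
      · exact hpz.ne e.symm
      · exact hzq.ne e
    have h1 := ringKrullDim_quotient_eq_add_one_of_covBy k p q hcov
    rw [← coe_quotDim k p, ← coe_quotDim k q] at h1
    have : ((quotDim p : ℕ) : WithBot ℕ∞) = ((quotDim q + 1 : ℕ) : WithBot ℕ∞) := by
      push_cast
      exact h1
    exact_mod_cast this
  exists_specializes_of_ne_zero := by
    intro p W hW hpW h0
    have : IsJacobsonRing A := isJacobsonRing_of_finiteType (A := k) (B := A)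
    have hne : (W ∩ closure {p}).Nonempty := ⟨p, hpW, subset_closure rfl⟩
    obtain ⟨q, ⟨hqW, hqp⟩, hq⟩ := nonempty_inter_closedPoints hne
      (hW.isLocallyClosed.inter isClosed_closure.isLocallyClosed)
    refine ⟨q, hqW, specializes_iff_mem_closure.mpr hqp, ?_⟩
    rintro rfl
    exact h0 (quotDim_eq_zero_of_isMaximal k q
      ((PrimeSpectrum.isClosed_singleton_iff_isMaximal q).mp hq))

end


/-- Coheight in the specialization preorder on a prime spectrum is the height of the prime. -/
lemma coheight_specialization_eq_height {A : Type*} [CommRing A] (p : PrimeSpectrum A) :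
    @Order.coheight (PrimeSpectrum A) (specializationPreorder (PrimeSpectrum A)) p =
      p.asIdeal.height := by
  rw [PrimeSpectrum.height_eq_orderHeight]
  let e : @RelIso (PrimeSpectrum A) (@OrderDual (PrimeSpectrum A)) (· ≤ ·)
      (@LE.le _ (@OrderDual.instLE _ (specializationPreorder (PrimeSpectrum A)).toLE)) :=
    ⟨Equiv.refl _, by
        intro a b
        exact (PrimeSpectrum.le_iff_specializes a b).symm⟩
  exact (@Order.height_orderIso (PrimeSpectrum A) (@OrderDual (PrimeSpectrum A)) _
    (@OrderDual.instPreorder _ (specializationPreorder (PrimeSpectrum A))) e p)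


section

variable (k : Type*) [Field k] {A : Type*} [CommRing A] [Algebra k A] [Algebra.FiniteType k A]

include k in
/-- Local dimension of the spectrum of a finite type algebra over a field at a prime. -/
theorem localDim_primeSpectrum_eq (p : PrimeSpectrum A) :
    FlatMor.localDim (PrimeSpectrum A) p =
      ((p.asIdeal.height + (quotDim p : ℕ∞) : ℕ∞) : WithBot ℕ∞) := by
  have : IsNoetherianRing A := Algebra.FiniteType.isNoetherianRing k A
  obtain ⟨W, hW, hpW, hLN⟩ := exists_open_forall_exists_generic p
  have := (isDimFun_quotDim k (A := A)).iInf_topologicalKrullDim_eq p W hW hpW hLN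
  rw [coheight_specialization_eq_height] at this
  exact this

include k in
theorem quotDim_eq_zero_iff (p : PrimeSpectrum A) : quotDim p = 0 ↔ p.asIdeal.IsMaximal := by
  refine ⟨fun h0 => ?_, quotDim_eq_zero_of_isMaximal k p⟩
  have h1 := coe_quotDim k p
  rw [h0] at h1
  have : Ring.KrullDimLE 0 (A ⧸ p.asIdeal) := by
    rw [Ring.krullDimLE_iff, ← h1]
  exact Ideal.Quotient.maximal_of_isField _ Ring.KrullDimLE.isField_of_isDomain

include k in
/-- The local dimension at a prime is the infimum of the dimensions of the local rings at the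
maximal ideals above it. -/
theorem localDim_primeSpectrum_eq_iInf (p : PrimeSpectrum A) :
    FlatMor.localDim (PrimeSpectrum A) p =
      ⨅ m : {m : Ideal A // m.IsMaximal ∧ p.asIdeal ≤ m},
        ((m.1.height : ℕ∞) : WithBot ℕ∞) := by
  have : IsNoetherianRing A := Algebra.FiniteType.isNoetherianRing k A
  have hδ := isDimFun_quotDim k (A := A)
  obtain ⟨W, hW, hpW, hLN⟩ := exists_open_forall_exists_generic p
  rw [localDim_primeSpectrum_eq k p]
  apply le_antisymm
  · refine le_iInf fun m => ?_
    let q : PrimeSpectrum A := ⟨m.1, m.2.1.isPrime⟩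
    have hpq : p ⤳ q := (PrimeSpectrum.le_iff_specializes p q).mp m.2.2
    have h1 := hδ.coheight_add_le_of_specializes hpq
    rw [coheight_specialization_eq_height, coheight_specialization_eq_height,
      quotDim_eq_zero_of_isMaximal k q m.2.1] at h1
    simpa using WithBot.coe_le_coe.mpr h1
  · obtain ⟨y, hpy, hy0, hy⟩ := hδ.exists_specializes_zero_coheight_le p W hW hpW hLN
    rw [coheight_specialization_eq_height, coheight_specialization_eq_height] at hy
    have hymax : y.asIdeal.IsMaximal := (quotDim_eq_zero_iff k y).mp hy0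
    refine (iInf_le _ ⟨y.asIdeal, hymax, (PrimeSpectrum.le_iff_specializes p y).mpr hpy⟩).trans ?_
    exact WithBot.coe_le_coe.mpr hy

end

end Groth.Agent.Lib.Helper73
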