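import Mathlib.AlgebraicGeometry.ResidueField
import Mathlib.AlgebraicGeometry.Morphisms.FiniteType
import Mathlib.AlgebraicGeometry.AffineScheme
import Mathlib.AlgebraicGeometry.Noetherian
import Mathlib.AlgebraicGeometry.Properties
import Groth.Prelude.Def_CurvBase
import Groth.Prelude.Def_Flat
import Groth.Agent.Lib.Helper73.DimFT.Spec

set_option autoImplicit false
open TopologicalSpace Topology Order AlgebraicGeometry CategoryTheory

universe u

namespace Groth.Agent.Lib.Helper73

section ResMap

variable {k : Type u} [Field k]

/-- The structure map from the base field to the residue field at a point of a scheme over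
`Spec k` (structure morphism given explicitly). -/
noncomputable def resMapOf {X : Scheme.{u}} (f : X ⟶ Spec (CommRingCat.of k)) (x : X) :
    k →+* X.residueField x :=
  (X.residue x).hom.comp ((X.presheaf.germ ⊤ x trivial).hom.comp (Coh.toGlobal f))

lemma resMap_eq_resMapOf (X : Scheme.{u}) [X.Over (Spec (CommRingCat.of k))] (x : X) :
    Curv2.resMap k X x = resMapOf (X ↘ Spec (CommRingCat.of k)) x := rfl

lemma resMapOf_apply {X : Scheme.{u}} (f : X ⟶ Spec (CommRingCat.of k)) (x : X) (c : k) :
    resMapOf f x c = X.Γevaluation x (f.appTop ((Scheme.ΓSpecIso (CommRingCat.of k)).inv c)) :=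
  rfl

/-- Residue field maps are compatible with the structure maps from the base field. -/
lemma residueFieldMap_comp_resMapOf {X Y : Scheme.{u}} (f : X ⟶ Spec (CommRingCat.of k))
    (g : Y ⟶ X) (y : Y) :
    (g.residueFieldMap y).hom.comp (resMapOf f (g y)) = resMapOf (g ≫ f) y := by
  ext c
  simp only [RingHom.comp_apply, resMapOf_apply]
  rw [Scheme.Γevaluation_naturality_apply, Scheme.Hom.comp_appTop]
  rfl

/-- Transcendence degree is invariant under ring isomorphisms compatible with structure maps. -/
lemma trdeg_eq_of_ringEquiv {K L : Type u} [Field K] [Field L] (φ : k →+* K) (ψ : k →+* L)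
    (e : K ≃+* L) (he : e.toRingHom.comp φ = ψ) :
    @Algebra.trdeg k K _ _ φ.toAlgebra = @Algebra.trdeg k L _ _ ψ.toAlgebra := by
  let _ := φ.toAlgebra
  let _ := ψ.toAlgebra
  let e' : K ≃ₐ[k] L := AlgEquiv.ofRingEquiv (f := e) (fun c => by
    change e.toRingHom (φ c) = ψ c
    rw [← he]; rfl)
  exact e'.trdeg_eq

/-- Open immersions preserve the transcendence degree of residue fields. -/
lemma trdeg_residueField_eq_of_isOpenImmersion {X Y : Scheme.{u}}
    (f : X ⟶ Spec (CommRingCat.of k)) (g : Y ⟶ X) [IsOpenImmersion g] (y : Y) :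
    @Algebra.trdeg k (X.residueField (g y)) _ _ (resMapOf f (g y)).toAlgebra =
      @Algebra.trdeg k (Y.residueField y) _ _ (resMapOf (g ≫ f) y).toAlgebra := by
  refine trdeg_eq_of_ringEquiv _ _ (asIso (g.residueFieldMap y)).commRingCatIsoToRingEquiv ?_
  rw [← residueFieldMap_comp_resMapOf f g y]
  rfl

set_option backward.isDefEq.respectTransparency.types false in
/-- For an affine scheme the residue field with its structure map from the base field is the
residue field of the prime ideal. -/
lemma trdeg_residueField_Spec (A : Type u) [CommRing A] [Algebra k A]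
    (p : Spec (CommRingCat.of A)) :
    @Algebra.trdeg k ((Spec (CommRingCat.of A)).residueField p) _ _
      (resMapOf (Spec.map (CommRingCat.ofHom (algebraMap k A))) p).toAlgebra =
      Algebra.trdeg k p.asIdeal.ResidueField := by
  have h := trdeg_eq_of_ringEquiv
    (resMapOf (Spec.map (CommRingCat.ofHom (algebraMap k A))) p)
    (algebraMap k p.asIdeal.ResidueField)
    (Scheme.Spec.residueFieldIso (CommRingCat.of A) p).commRingCatIsoToRingEquiv ?_
  · rw [h]
    congr 1
  · ext c
    simp only [RingHom.comp_apply, resMapOf_apply]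
    have h1 := Scheme.ΓSpecIso_inv_naturality (CommRingCat.ofHom (algebraMap k A))
    have h2 : (Spec.map (CommRingCat.ofHom (algebraMap k A))).appTop
        ((Scheme.ΓSpecIso (CommRingCat.of k)).inv c) =
        (Scheme.ΓSpecIso (CommRingCat.of A)).inv (algebraMap k A c) := by
      have := congrArg (fun φ => φ.hom c) h1
      exact this.symm
    rw [h2]
    have h3 := Scheme.Spec.algebraMap_residueFieldIso_inv (CommRingCat.of A) p
    have h4 : (Scheme.Spec.residueFieldIso (CommRingCat.of A) p).inv
        (algebraMap A p.asIdeal.ResidueField (algebraMap k A c)) =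
        (Spec (CommRingCat.of A)).Γevaluation p
          ((Scheme.ΓSpecIso (CommRingCat.of A)).inv (algebraMap k A c)) := by
      have := congrArg (fun φ => φ.hom (algebraMap k A c)) h3
      exact this
    rw [← h4]
    change (Scheme.Spec.residueFieldIso (CommRingCat.of A) p).hom
      ((Scheme.Spec.residueFieldIso (CommRingCat.of A) p).inv _) = _
    rw [← CommRingCat.comp_apply, Iso.inv_hom_id]
    simp [IsScalarTower.algebraMap_apply k A p.asIdeal.ResidueField]

end ResMap


section Chart

variable {k : Type u} [Field k] {X : Scheme.{u}} (f : X ⟶ Spec (CommRingCat.of k))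
  {U : X.Opens} (hU : IsAffineOpen U)

/-- The `k`-algebra structure on the sections over an affine open of a scheme over `Spec k`. -/
noncomputable abbrev chartAlgebra : Algebra k Γ(X, U) :=
  (Spec.preimage (hU.fromSpec ≫ f)).hom.toAlgebra

lemma chart_specMap :
    Spec.map (CommRingCat.ofHom (@algebraMap k Γ(X, U) _ _ (chartAlgebra f hU))) =
      hU.fromSpec ≫ f :=
  Spec.map_preimage _

lemma chart_finiteType [LocallyOfFiniteType f] :
    @Algebra.FiniteType k Γ(X, U) _ _ (chartAlgebra f hU) := by
  have h1 : LocallyOfFiniteType (hU.fromSpec ≫ f) := inferInstance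
  rw [← chart_specMap f hU] at h1
  exact HasRingHomProperty.Spec_iff.mp h1

set_option backward.isDefEq.respectTransparency.types false in
lemma trdeg_residueField_Spec' (A : Type u) [CommRing A] [Algebra k A]
    (g : Spec (CommRingCat.of A) ⟶ Spec (CommRingCat.of k))
    (hg : g = Spec.map (CommRingCat.ofHom (algebraMap k A))) (p : Spec (CommRingCat.of A)) :
    @Algebra.trdeg k ((Spec (CommRingCat.of A)).residueField p) _ _ (resMapOf g p).toAlgebra =
      Algebra.trdeg k p.asIdeal.ResidueField := by
  subst hg
  exact trdeg_residueField_Spec A p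

/-- The transcendence degree of the residue field, as a natural number. -/
noncomputable def trdegNat (x : X) : ℕ :=
  Cardinal.toNat (@Algebra.trdeg k (X.residueField x) _ _ (resMapOf f x).toAlgebra)

set_option backward.isDefEq.respectTransparency.types false in
lemma chart_trdeg (p : Spec Γ(X, U)) :
    letI := chartAlgebra f hU
    @Algebra.trdeg k (X.residueField (hU.fromSpec p)) _ _ (resMapOf f (hU.fromSpec p)).toAlgebra =
      Algebra.trdeg k p.asIdeal.ResidueField := by
  let _ := chartAlgebra f hU
  rw [trdeg_residueField_eq_of_isOpenImmersion f hU.fromSpec p]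
  exact trdeg_residueField_Spec' (k := k) Γ(X, U) (hU.fromSpec ≫ f) (chart_specMap f hU).symm p

set_option backward.isDefEq.respectTransparency.types false in
/-- In an affine chart the transcendence degree of the residue field is the dimension of the
quotient by the corresponding prime. -/
lemma chart_trdeg_eq_quotDim [LocallyOfFiniteType f] (p : Spec Γ(X, U)) :
    @Algebra.trdeg k (X.residueField (hU.fromSpec p)) _ _ (resMapOf f (hU.fromSpec p)).toAlgebra =
      ((quotDim (A := Γ(X, U)) p : ℕ) : Cardinal) := by
  let _ := chartAlgebra f hU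
  have := chart_finiteType f hU
  rw [chart_trdeg f hU p]
  exact trdeg_eq_of_ringKrullDim_eq k p.asIdeal.ResidueField (quotDim (A := Γ(X, U)) p)
    (coe_quotDim k (A := Γ(X, U)) p).symm

lemma chart_trdegNat [LocallyOfFiniteType f] (p : Spec Γ(X, U)) :
    trdegNat f (hU.fromSpec p) = quotDim (A := Γ(X, U)) p := by
  rw [trdegNat, chart_trdeg_eq_quotDim f hU p, Cardinal.toNat_natCast]

end Chart

section LFT

variable {k : Type u} [Field k] {X : Scheme.{u}} (f : X ⟶ Spec (CommRingCat.of k))
  [LocallyOfFiniteType f]

/-- For a scheme locally of finite type over a field, the transcendence degree of the residue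
field is a dimension function. -/
theorem isDimFun_trdegNat : IsDimFun (trdegNat f) := by
  refine IsDimFun.of_charts fun y => ?_
  obtain ⟨U, hU, hyU, -⟩ := exists_isAffineOpen_mem_and_subset (X := X) (x := y) (U := ⊤) trivial
  refine ⟨↥(Spec Γ(X, U)), inferInstance, hU.fromSpec, hU.fromSpec.isOpenEmbedding, ?_, ?_⟩
  · rw [hU.range_fromSpec]; exact hyU
  · let _ := chartAlgebra f hU
    have := chart_finiteType f hU
    have h1 : (trdegNat f ∘ hU.fromSpec) = (quotDim (A := Γ(X, U))) := by
      funext p
      exact chart_trdegNat f hU p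
    rw [h1]
    exact isDimFun_quotDim k (A := Γ(X, U))

/-- The transcendence degree of a residue field of a scheme locally of finite type over a field
is finite. -/
theorem trdeg_eq_trdegNat (x : X) :
    @Algebra.trdeg k (X.residueField x) _ _ (resMapOf f x).toAlgebra = (trdegNat f x : Cardinal) := by
  obtain ⟨U, hU, hxU, -⟩ := exists_isAffineOpen_mem_and_subset (X := X) (x := x) (U := ⊤) trivial
  have hx : x ∈ Set.range hU.fromSpec := by rw [hU.range_fromSpec]; exact hxU
  obtain ⟨p, rfl⟩ := hx
  rw [chart_trdegNat f hU p, chart_trdeg_eq_quotDim f hU p]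

end LFT



section LFT

variable {k : Type u} [Field k] {X : Scheme.{u}} (f : X ⟶ Spec (CommRingCat.of k))
  [LocallyOfFiniteType f]

include f in
/-- Every point of a scheme locally of finite type over a field has an open neighbourhood which
is a Noetherian space. -/
lemma exists_open_noetherianSpace (x : X) :
    ∃ U : Set X, IsOpen U ∧ x ∈ U ∧ NoetherianSpace ↥U := by
  obtain ⟨U, hU, hxU, -⟩ := exists_isAffineOpen_mem_and_subset (X := X) (x := x) (U := ⊤) trivial
  let _ := chartAlgebra f hU
  have := chart_finiteType f hU
  have : IsNoetherianRing Γ(X, U) := Algebra.FiniteType.isNoetherianRing k Γ(X, U)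
  have h1 : NoetherianSpace ↥(Set.range hU.fromSpec) :=
    NoetherianSpace.range (α := ↥(Spec Γ(X, U))) hU.fromSpec hU.fromSpec.continuous
  rw [hU.range_fromSpec] at h1
  exact ⟨U, U.isOpen, hxU, h1⟩

include f in
lemma exists_open_forall_exists_generic_scheme (x : X) :
    ∃ W : Set X, IsOpen W ∧ x ∈ W ∧ ∀ w ∈ W, ∃ η : X, η ⤳ w ∧ η ⤳ x := by
  obtain ⟨U, hU, hxU, hN⟩ := exists_open_noetherianSpace f x
  exact exists_open_forall_exists_generic_of_nhd x U hU hxU

/-- Local dimension formula for schemes locally of finite type over a field. -/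
theorem localDim_eq (x : X) :
    FlatMor.localDim X x = ringKrullDim (X.presheaf.stalk x) + ((trdegNat f x : ℕ) : WithBot ℕ∞) := by
  obtain ⟨W, hW, hxW, hLN⟩ := exists_open_forall_exists_generic_scheme f x
  have := (isDimFun_trdegNat f).iInf_topologicalKrullDim_eq x W hW hxW hLN
  rw [ringKrullDim_stalk_eq_coheight]
  exact this

/-- Dimension of a scheme locally of finite type over a field. -/
theorem topologicalKrullDim_eq_iSup_trdegNat :
    topologicalKrullDim X = ⨆ x : X, ((trdegNat f x : ℕ∞) : WithBot ℕ∞) :=
  (isDimFun_trdegNat f).topologicalKrullDim_eq_iSup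

/-- Dimension of an open subset. -/
theorem topologicalKrullDim_open_eq_iSup_trdegNat {W : Set X} (hW : IsOpen W) :
    topologicalKrullDim ↥W = ⨆ x : ↥W, ((trdegNat f x.1 : ℕ∞) : WithBot ℕ∞) :=
  (isDimFun_trdegNat f).topologicalKrullDim_open_eq_iSup hW

/-- Closed points have residue field algebraic over the base field. -/
theorem trdegNat_eq_zero_of_isClosed {x : X} (hx : IsClosed ({x} : Set X)) : trdegNat f x = 0 := by
  by_contra h0
  obtain ⟨y, -, hxy, hne⟩ := (isDimFun_trdegNat f).exists_specializes_of_ne_zero x Set.univ
    isOpen_univ trivial h0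
  have : y ∈ closure ({x} : Set X) := specializes_iff_mem_closure.mp hxy
  rw [hx.closure_eq] at this
  exact hne this

end LFT


end Groth.Agent.Lib.Helper73
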