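import Groth.Agent.Lib.Helper73.DimFT.Scheme
import Mathlib.RingTheory.Ideal.KrullsHeightTheorem

set_option autoImplicit false
open TopologicalSpace Topology Order AlgebraicGeometry CategoryTheory

universe u

namespace Groth.Agent.Lib.Helper73

/-- Krull's principal ideal theorem in covering form: if `g ∈ m`, `g ∉ q`, `q ≤ m` primes of a
Noetherian ring, there is a prime `r` covering `q`, contained in `m` and containing `g`. -/
lemma exists_covBy_mem_le {A : Type*} [CommRing A] [IsNoetherianRing A] (g : A)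
    (q m : PrimeSpectrum A) (hqm : q ≤ m) (hgm : g ∈ m.asIdeal) (hgq : g ∉ q.asIdeal) :
    ∃ r : PrimeSpectrum A, q ⋖ r ∧ r ≤ m ∧ g ∈ r.asIdeal := by
  let B := A ⧸ q.asIdeal
  let mk : A →+* B := Ideal.Quotient.mk q.asIdeal
  have hmk : Function.Surjective mk := Ideal.Quotient.mk_surjective
  have hm' : (m.asIdeal.map mk).IsPrime := Ideal.isPrime_map_quotientMk_of_isPrime hqm
  have hle : Ideal.span {mk g} ≤ m.asIdeal.map mk := by
    rw [Ideal.span_singleton_le_iff_mem]
    exact Ideal.mem_map_of_mem mk hgm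
  obtain ⟨𝔯, h𝔯, h𝔯m⟩ := Ideal.exists_minimalPrimes_le hle
  have h𝔯p : 𝔯.IsPrime := h𝔯.1.1
  have hht : 𝔯.height ≤ 1 :=
    Ideal.height_le_one_of_isPrincipal_of_mem_minimalPrimes (Ideal.span {mk g}) 𝔯 h𝔯
  have hg𝔯 : mk g ∈ 𝔯 := h𝔯.1.2 (Ideal.mem_span_singleton_self _)
  let r : PrimeSpectrum A := ⟨𝔯.comap mk, Ideal.comap_isPrime mk 𝔯⟩
  have hqr : q ≤ r := by
    change q.asIdeal ≤ 𝔯.comap mk
    intro x hx
    rw [Ideal.mem_comap]
    have : mk x = 0 := Ideal.Quotient.eq_zero_iff_mem.mpr hx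
    rw [this]; exact 𝔯.zero_mem
  have hgr : g ∈ r.asIdeal := hg𝔯
  have hne : q ≠ r := fun e => hgq (e ▸ hgr)
  refine ⟨r, ⟨lt_of_le_of_ne hqr hne, ?_⟩, ?_, hgr⟩
  · intro s hqs hsr
    -- the image of `s` in `B` is a prime strictly below `𝔯`
    have hs' : (s.asIdeal.map mk).IsPrime := Ideal.isPrime_map_quotientMk_of_isPrime hqs.le
    have hcomap : (s.asIdeal.map mk).comap mk = s.asIdeal := by
      rw [Ideal.comap_map_of_surjective mk hmk, ← RingHom.ker_eq_comap_bot, Ideal.mk_ker]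
      exact sup_eq_left.mpr hqs.le
    have hlt : s.asIdeal.map mk < 𝔯 := by
      refine lt_of_le_of_ne ?_ ?_
      · rw [Ideal.map_le_iff_le_comap]; exact hsr.le
      · intro e
        apply hsr.ne
        ext1
        change s.asIdeal = 𝔯.comap mk
        rw [← e, hcomap]
    have h0 : (s.asIdeal.map mk).height < 1 :=
      lt_of_lt_of_le (Ideal.height_strict_mono_of_isPrime_of_isPrime hlt) hht
    have hbot : s.asIdeal.map mk = ⊥ := by
      rw [← Ideal.height_eq_zero_iff_eq_bot]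
      exact Order.lt_one_iff.mp h0
    apply hqs.ne
    ext1
    rw [← hcomap, hbot, ← RingHom.ker_eq_comap_bot, Ideal.mk_ker]
  · change 𝔯.comap mk ≤ m.asIdeal
    have : (m.asIdeal.map mk).comap mk = m.asIdeal := by
      rw [Ideal.comap_map_of_surjective mk hmk, ← RingHom.ker_eq_comap_bot, Ideal.mk_ker]
      exact sup_eq_left.mpr hqm
    rw [← this]
    exact Ideal.comap_mono h𝔯m


section Hyper

variable {k : Type u} [Field k] {X : Scheme.{u}} (p : X ⟶ Spec (CommRingCat.of k))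
  [LocallyOfFiniteType p]

/-- Membership in the zero locus of a global section, read in an affine chart. -/
lemma fromSpec_mem_zeroLocus_iff {U : X.Opens} (hU : IsAffineOpen U) (f : Γ(X, ⊤))
    (q : Spec Γ(X, U)) :
    hU.fromSpec q ∈ X.zeroLocus (U := ⊤) {f} ↔
      (X.presheaf.map (homOfLE (le_top : U ≤ ⊤)).op).hom f ∈ q.asIdeal := by
  have hqU : hU.fromSpec q ∈ (U : Set X) := by
    rw [← hU.range_fromSpec]; exact ⟨q, rfl⟩
  have h1 := X.zeroLocus_map (le_top : U ≤ ⊤) ({f} : Set Γ(X, ⊤))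
  have h2 := hU.fromSpec_preimage_zeroLocus
    ((X.presheaf.map (homOfLE (le_top : U ≤ ⊤)).op).hom '' ({f} : Set Γ(X, ⊤)))
  have h3 : hU.fromSpec q ∈ X.zeroLocus (U := ⊤) {f} ↔
      hU.fromSpec q ∈ X.zeroLocus
        ((X.presheaf.map (homOfLE (le_top : U ≤ ⊤)).op).hom '' ({f} : Set Γ(X, ⊤))) := by
    rw [h1]
    constructor
    · intro h; exact Or.inl h
    · rintro (h | h)
      · exact h
      · exact absurd hqU h
  rw [h3, ← Set.mem_preimage, h2]
  simp only [Set.image_singleton]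
  constructor
  · intro h; exact h (Set.mem_singleton _)
  · intro h x hx; rw [Set.mem_singleton_iff.mp hx]; exact h

/-- Hypersurface sections drop the dimension by exactly one along some immediate
specialization: if `ζ ⤳ y`, `y ∈ V(f)` and `ζ ∉ V(f)` there is `z ∈ V(f)` between them with
`trdeg κ(ζ) = trdeg κ(z) + 1`. -/
theorem exists_mem_zeroLocus_trdegNat_add_one (f : Γ(X, ⊤)) {ζ y : X} (hζy : ζ ⤳ y)
    (hy : y ∈ X.zeroLocus (U := ⊤) {f}) (hζ : ζ ∉ X.zeroLocus (U := ⊤) {f}) :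
    ∃ z : X, ζ ⤳ z ∧ z ⤳ y ∧ z ∈ X.zeroLocus (U := ⊤) {f} ∧
      trdegNat p ζ = trdegNat p z + 1 := by
  obtain ⟨U, hU, hyU, -⟩ := exists_isAffineOpen_mem_and_subset (X := X) (x := y) (U := ⊤) trivial
  have hζU : ζ ∈ (U : Set X) := hζy.mem_open U.isOpen hyU
  obtain ⟨m, rfl⟩ : y ∈ Set.range hU.fromSpec := by rw [hU.range_fromSpec]; exact hyU
  obtain ⟨q, rfl⟩ : ζ ∈ Set.range hU.fromSpec := by rw [hU.range_fromSpec]; exact hζU
  let _ := chartAlgebra p hU
  have := chart_finiteType p hU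
  have : IsNoetherianRing Γ(X, U) := Algebra.FiniteType.isNoetherianRing k Γ(X, U)
  set g := (X.presheaf.map (homOfLE (le_top : U ≤ ⊤)).op).hom f with hg
  have hgm : g ∈ m.asIdeal := (fromSpec_mem_zeroLocus_iff hU f m).mp hy
  have hgq : g ∉ q.asIdeal := fun h => hζ ((fromSpec_mem_zeroLocus_iff hU f q).mpr h)
  have hqm' : q ⤳ m := hU.fromSpec.isOpenEmbedding.isInducing.specializes_iff.mp hζy
  let q' : PrimeSpectrum Γ(X, U) := q
  let m' : PrimeSpectrum Γ(X, U) := m
  have hqm : q' ≤ m' := (PrimeSpectrum.le_iff_specializes q' m').mpr hqm'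
  obtain ⟨r, hqr, hrm, hgr⟩ := exists_covBy_mem_le g q' m' hqm hgm hgq
  refine ⟨hU.fromSpec r, ?_, ?_, (fromSpec_mem_zeroLocus_iff hU f r).mpr hgr, ?_⟩
  · exact ((PrimeSpectrum.le_iff_specializes q' r).mp hqr.le).map hU.fromSpec.continuous
  · exact ((PrimeSpectrum.le_iff_specializes r m').mp hrm).map hU.fromSpec.continuous
  · rw [chart_trdegNat p hU q, chart_trdegNat p hU r]
    have h1 := ringKrullDim_quotient_eq_add_one_of_covBy k q' r hqr
    rw [← coe_quotDim k q', ← coe_quotDim k r] at h1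
    have : ((quotDim (A := Γ(X, U)) q' : ℕ) : WithBot ℕ∞) =
        ((quotDim (A := Γ(X, U)) r + 1 : ℕ) : WithBot ℕ∞) := by
      push_cast
      exact h1
    exact_mod_cast this

end Hyper


end Groth.Agent.Lib.Helper73
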